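/-
An involution `t` whose centralizer has an elementary abelian Sylow `2`-subgroup `⟨t⟩ × V`
with a cyclic group transitive on `V#`: basic facts.
-/
import Cfsg.Agent.NO6.Fp
import Cfsg.Agent.H12.Har8
import Cfsg.Agent.H18.Transfer2
import Cfsg.Agent.H42.SylIn

set_option autoImplicit false
set_option linter.unusedSectionVars false

namespace Cfsg.Agent.TL2

open Cfsg Subgroup H49
open H42 (SylIn exists_sylIn lt_inf_normalizer)

variable {G : Type*} [Group G] [Finite G]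

theorem cm {X : Subgroup G} {g x : G} (h : g ∈ 𝒩(X)) (hx : x ∈ X) : g * x * g⁻¹ ∈ X :=
  conj_mem_of_norm le_rfl h hx

theorem cm' {X : Subgroup G} {g x : G} (h : g ∈ 𝒩(X)) (hx : x ∈ X) : g⁻¹ * x * g ∈ X :=
  conj_mem_of_norm' le_rfl h hx

theorem mn {X : Subgroup G} {g : G} (h : ∀ x ∈ X, g * x * g⁻¹ ∈ X) : g ∈ 𝒩(X) :=
  H42.mem_normalizer_of_conj_mem h

theorem mem_sup_t {A : Subgroup G} {t x : G} (tt : t * t = 1) (hn : t ∈ 𝒩(A)) :
    x ∈ A ⊔ zpowers t ↔ x ∈ A ∨ t * x ∈ A := by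
  rw [NO6.mem_sup_zpowers hn (tt ▸ one_mem A), inv_eq_of_mul_eq_one_right tt]

theorem p2_zpowers {t : G} (tt : t * t = 1) : IsPGroup 2 (zpowers t) := fun ⟨x, hx⟩ =>
  ⟨1, Subtype.ext (by
    rcases (H42.mem_zpowers_of_mul_self tt).1 hx with rfl | rfl
    · simp
    · simpa [pow_two] using tt)⟩

theorem p2_sup {A B : Subgroup G} (hA : IsPGroup 2 A) (hB : IsPGroup 2 B) (h : B ≤ 𝒩(A)) :
    IsPGroup 2 (A ⊔ B : Subgroup G) :=
  sup_comm A B ▸ IsPGroup.to_sup_of_normal_right' hB hA h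

theorem card_two {A B : Subgroup G} (h : A ≤ B) (h2 : A.relIndex B = 2) :
    Nat.card B = Nat.card A * 2 := by rw [← h2, card_mul_relIndex h]

/-- `t` lies outside a subgroup of index two. -/
def Out (t : G) : Prop := ∃ N : Subgroup G, N.index = 2 ∧ t ∉ N

theorem out_of {t : G} (tt : t * t = 1) {P M : Subgroup G} (hP : SylIn 2 P ⊤)
    (hM : M.relIndex P = 2) (h : ∀ g : G, g * t * g⁻¹ ∉ M) : Out t := by
  obtain ⟨N, -, h1, h2, -⟩ := H18.exists_index_two (P := P) (Q := M) (by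
    have := hP.ndvd
    rwa [relIndex_top_right, ← even_iff_two_dvd, Nat.not_even_iff_odd] at this) hM (u := t)
    (n := 1) (by rw [pow_one, pow_two, tt]) h fun k g _ => by simp [tt]
  exact ⟨N, h1, h2⟩

/-- A `2`-subgroup containing a Sylow subgroup of `C(t)` and controlling its fusion is Sylow. -/
theorem syl_of_fus {t : G} {T P : Subgroup G} (hT : SylIn 2 T 𝒞[t]) (ht : t ∈ T)
    (hP : IsPGroup 2 P) (hle : T ≤ P)
    (h : ∀ g ∈ 𝒩(P), ∃ p ∈ P, p * t * p⁻¹ = g * t * g⁻¹) : SylIn 2 P ⊤ := by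
  obtain ⟨S, hS, hPS⟩ := exists_sylIn hP le_top
  rcases hPS.eq_or_lt with e | e
  · exact e ▸ hS
  obtain ⟨g, hg, hg'⟩ := SetLike.exists_of_lt (lt_inf_normalizer hS.isP e)
  obtain ⟨p, hp, e'⟩ := h g hg.2
  have h1 := hT.eq_of_le (hS.isP.to_inf_left (K := 𝒞[t])) inf_le_right
    (le_inf (hle.trans hPS) hT.le)
  have h2 : p⁻¹ * g ∈ S ⊓ 𝒞[t] := ⟨S.mul_mem (S.inv_mem (hPS hp)) hg.1, mem_cent1.2 (by
    calc _ = p⁻¹ * (g * t * g⁻¹) * g := by group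
      _ = _ := by rw [← e']; group)⟩
  exact absurd (mul_inv_cancel_left p g ▸ mul_mem hp (hle (h1 ▸ h2))) hg'

theorem two_le {t : G} {T R : Subgroup G} (hT : SylIn 2 T 𝒞[t]) (hR : IsPGroup 2 R) {g : G}
    (hc : R ≤ 𝒞[g * t * g⁻¹]) : ∃ k : G, k * (g * t * g⁻¹) * k⁻¹ = t ∧ cj k R ≤ T := by
  obtain ⟨c, hc1, hc2⟩ := hT.exists_conj (R := cj g⁻¹ R) (isPGroup_cj.2 hR) (by
    rw [cj_le_iff, inv_inv, cj_cent1]; exact hc)
  refine ⟨c * g⁻¹, ?_, fun x hx => ?_⟩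
  · calc _ = c * t * c⁻¹ := by group
      _ = t := by rw [mem_cent1.1 hc1]; group
  · obtain ⟨y, hy, rfl⟩ := mem_cj'.1 hx
    have := hc2 _ (conj_mem_cj.2 hy)
    rwa [show c * (g⁻¹ * y * g⁻¹⁻¹) * c⁻¹ = c * g⁻¹ * y * (c * g⁻¹)⁻¹ by group] at this

theorem card_le_of {t : G} {T R : Subgroup G} (hT : SylIn 2 T 𝒞[t]) (hR : IsPGroup 2 R) {g : G}
    (hc : R ≤ 𝒞[g * t * g⁻¹]) : Nat.card R ≤ Nat.card T := by
  obtain ⟨k, -, hk⟩ := two_le hT hR hc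
  rw [← card_cj k]
  exact card_le_of_le hk

theorem count {t : G} {T X B : Subgroup G} (hT : SylIn 2 T 𝒞[t]) (hX : IsPGroup 2 X) {g w : G}
    (hw : w = g * t * g⁻¹) (h : ∀ x ∈ X, x * w * x⁻¹ * w⁻¹ ∈ B) :
    Nat.card X ≤ Nat.card B * Nat.card T := by
  rw [← H12.card_conj_orbit X w]
  refine Nat.mul_le_mul (Nat.card_le_card_of_injective (fun u => (⟨u.1 * w⁻¹, by
    obtain ⟨x, hx, e⟩ := u.2
    exact e ▸ h x hx⟩ : B)) fun u v e => Subtype.ext (mul_right_cancel (congrArg Subtype.val e)))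
    (card_le_of hT hX.to_inf_left (g := g) (by rw [← hw]; exact inf_le_right))

theorem exists_third {V : Subgroup G} (h : 4 ≤ Nat.card V) (a b : G) :
    ∃ v ∈ V, v ≠ 1 ∧ v ≠ a ∧ v ≠ b := by
  classical
  by_contra! hc
  have := Set.ncard_le_ncard (s := (V : Set G)) (t := {1, a, b}) fun v hv => by
    by_cases h1 : v = 1
    · exact Or.inl h1
    by_cases h2 : v = a
    · exact Or.inr (Or.inl h2)
    exact Or.inr (Or.inr (hc v hv h1 h2))
  have h2 := Set.ncard_insert_le (1 : G) {a, b}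
  have h3 := Set.ncard_insert_le a {b}
  rw [Set.ncard_singleton] at h3
  change 4 ≤ (V : Set G).ncard at h
  omega

structure EC (t r : G) (V : Subgroup G) : Prop where
  tt : t * t = 1
  tV : t ∉ V
  sq : ∀ v ∈ V, v * v = 1
  four : 4 ≤ Nat.card V
  syl : SylIn 2 (V ⊔ zpowers t) 𝒞[t]
  rt : r * t = t * r
  rV : r ∈ 𝒩(V)
  tr : ∀ v ∈ V, ∀ w ∈ V, v ≠ 1 → w ≠ 1 → ∃ k : ℕ, r ^ k * v * (r ^ k)⁻¹ = w
  nr : ∀ c ∈ 𝒩(V), c * t = t * c → ∃ k : ℕ, ∀ v ∈ V,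
    c * r * c⁻¹ * v * (c * r * c⁻¹)⁻¹ = r ^ k * v * (r ^ k)⁻¹

namespace EC

variable {t r : G} {V : Subgroup G} (h : EC t r V)
include h

theorem t1 : t ≠ 1 := fun e => h.tV (e ▸ one_mem V)

theorem ti : t⁻¹ = t := inv_eq_of_mul_eq_one_right h.tt

theorem ct {v : G} (hv : v ∈ V) : v * t = t * v := mem_cent1.1 (h.syl.le (mem_sup_left hv))

theorem tN : t ∈ 𝒩(V) := mn fun v hv => by rwa [← h.ct hv, mul_inv_cancel_right]

theorem memT {x : G} : x ∈ V ⊔ zpowers t ↔ x ∈ V ∨ t * x ∈ V := mem_sup_t h.tt h.tN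

theorem tT : t ∈ V ⊔ zpowers t := mem_sup_right (mem_zpowers t)

theorem p2 : IsPGroup 2 V := h.syl.isP.to_le le_sup_left

theorem comm {v w : G} (hv : v ∈ V) (hw : w ∈ V) : v * w = w * v :=
  H12.comm_of_sq (h.sq v hv) (h.sq w hw) (h.sq _ (mul_mem hv hw))

theorem sqT {x : G} (hx : x ∈ V ⊔ zpowers t) : x * x = 1 := by
  rcases h.memT.1 hx with e | e
  · exact h.sq x e
  · have := h.sq _ e
    rwa [← mem_cent1.1 (h.syl.le hx), mul_assoc, mem_cent1.1 (h.syl.le hx), ← mul_assoc t, h.tt,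
      one_mul] at this

theorem cardT : Nat.card (V ⊔ zpowers t : Subgroup G) = Nat.card V * 2 :=
  card_two le_sup_left (NO6.relIndex_sup_zpowers h.tN (h.tt ▸ one_mem V) h.tV)

theorem cent {Q : Subgroup G} (hQ : IsPGroup 2 Q) (hT : V ⊔ zpowers t ≤ Q) {x : G} (hx : x ∈ Q)
    (c : x * t = t * x) : x ∈ V ∨ t * x ∈ V :=
  h.memT.1 (h.syl.eq_of_le (hQ.to_inf_left (K := 𝒞[t])) inf_le_right (le_inf hT h.syl.le) ▸
    ⟨hx, mem_cent1.2 c⟩)

theorem nsq (x g : G) : x * x ≠ g * t * g⁻¹ := fun e => by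
  have h4 : x ^ 2 ^ 2 = 1 := by
    calc _ = x * x * (x * x) := by rw [← pow_two, ← pow_two, ← pow_mul]; rfl
      _ = 1 := by rw [e, conj_mul, h.tt]; simp
  obtain ⟨k, -, hk⟩ := two_le h.syl (R := zpowers x) (fun ⟨y, j, hj⟩ => ⟨2, Subtype.ext (by
    simp only [SubmonoidClass.mk_pow, OneMemClass.coe_one, ← hj]
    rw [← zpow_natCast, ← zpow_mul, mul_comm, zpow_mul, zpow_natCast, h4, one_zpow])⟩)
    (zpowers_le.2 (mem_cent1.2 (by rw [← e, mul_assoc])))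
  have := h.sqT (hk (conj_mem_cj.2 (mem_zpowers x)))
  rw [conj_mul, conj_eq_one_iff, e, conj_eq_one_iff] at this
  exact h.t1 this

theorem rk (k : ℕ) : r ^ k * t = t * r ^ k := Commute.pow_left h.rt k

theorem rfix {v : G} (hv : v ∈ V) (e : r * v * r⁻¹ = v) : v = 1 := by
  by_contra v1
  obtain ⟨w, hw, w1, wv, -⟩ := exists_third h.four v v
  obtain ⟨k, rfl⟩ := h.tr v hv w hw v1 w1
  exact wv (mul_inv_eq_iff_eq_mul.2 (Commute.pow_left (mul_inv_eq_iff_eq_mul.1 e) k))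

theorem nc (hn : ¬ SylIn 2 (V ⊔ zpowers t) ⊤) (g : G) : g * t * g⁻¹ ∉ V := by
  obtain ⟨S, hS, hTS⟩ := exists_sylIn h.syl.isP le_top
  have hlt := lt_inf_normalizer hS.isP (hTS.lt_of_ne fun e => hn (e ▸ hS))
  obtain ⟨a, ha, ha'⟩ := SetLike.exists_of_lt hlt
  have hP : IsPGroup 2 (S ⊓ 𝒩(V ⊔ zpowers t) : Subgroup G) := hS.isP.to_inf_left
  obtain ⟨u, ⟨hu, u1⟩, hc⟩ := H12.exists_fix_two h.syl.isP hP (fun x hx b hb => cm hx.2 hb) h.tT h.t1
  have nu : ∀ g : G, g * t * g⁻¹ ≠ u := fun g e =>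
    (card_lt_of_lt hlt).not_ge (card_le_of h.syl hP (g := g) fun x hx => mem_cent1.2 (e ▸ hc x hx))
  have tr1 : ∀ v ∈ V, v ≠ 1 → ∀ g : G, g * t * g⁻¹ ∈ V → ∃ g : G, g * t * g⁻¹ = v :=
    fun v hv v1 g hg => by
      obtain ⟨k, hk⟩ := h.tr _ hg v hv (fun e => h.t1 (conj_eq_one_iff.1 e)) v1
      exact ⟨r ^ k * g, by rw [← hk]; group⟩
  intro hg
  rcases h.memT.1 hu with e | e
  · obtain ⟨g', hg'⟩ := tr1 u e u1 g hg
    exact nu g' hg'
  have tu : t * u ≠ 1 := fun e' => nu 1 (by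
    rw [one_mul, inv_one, mul_one, ← h.ti, inv_eq_of_mul_eq_one_right e'])
  have tr2 : ∀ v ∈ V, v ≠ 1 → ∀ g : G, g * t * g⁻¹ ≠ t * v := fun v hv v1 g e' => by
    obtain ⟨k, hk⟩ := h.tr v hv _ e v1 tu
    refine nu (r ^ k * g) ?_
    calc _ = r ^ k * (g * t * g⁻¹) * (r ^ k)⁻¹ := by group
      _ = r ^ k * t * (r ^ k)⁻¹ * (r ^ k * v * (r ^ k)⁻¹) := by rw [e']; group
      _ = u := by rw [hk, h.rk, mul_inv_cancel_right, ← mul_assoc, h.tt, one_mul]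
  have key : ∀ v ∈ V, v ≠ 1 → t * (a * (t * v) * a⁻¹) ∈ V := fun v hv v1 => by
    refine (h.memT.1 (cm ha.2 (mul_mem h.tT (mem_sup_left hv)))).resolve_left fun e' => ?_
    obtain ⟨g', hg'⟩ := tr1 _ e' (fun e'' => h.tV (by
      rw [eq_inv_of_mul_eq_one_left (conj_eq_one_iff.1 e'')]; exact inv_mem hv)) g hg
    exact tr2 v hv v1 (a⁻¹ * g') (by
      calc _ = a⁻¹ * (g' * t * g'⁻¹) * a := by group
        _ = _ := by rw [hg']; group)
  have haV : a ∈ 𝒩(V) := mn fun x hx => by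
    obtain ⟨v, hv, v1, vx, -⟩ := exists_third h.four x⁻¹ 1
    have := mul_mem (inv_mem (key v hv v1)) (key _ (mul_mem hv hx) fun e' =>
      vx (eq_inv_of_mul_eq_one_left e'))
    rwa [show (t * (a * (t * v) * a⁻¹))⁻¹ * (t * (a * (t * (v * x)) * a⁻¹)) = a * x * a⁻¹ by
      group] at this
  rcases h.memT.1 (cm ha.2 h.tT) with e' | e'
  · exact h.tV (by simpa [mul_assoc] using cm' haV e')
  · by_cases e1 : t * (a * t * a⁻¹) = 1
    · refine ha' (h.memT.2 (h.cent hP hlt.le ha ?_))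
      rw [← mul_inv_eq_iff_eq_mul, ← inv_eq_of_mul_eq_one_right e1, h.ti]
    · exact tr2 _ e' e1 a (by rw [← mul_assoc, h.tt, one_mul])

theorem change {n : G} (hn : n ∈ 𝒞(V)) (c : n * r * t = t * (n * r)) : EC t (n * r) V := by
  have hr : ∀ (k : ℕ), ∀ v ∈ V, (n * r) ^ k * v * ((n * r) ^ k)⁻¹ = r ^ k * v * (r ^ k)⁻¹ := by
    intro k v hv
    induction k with
    | zero => simp
    | succ k ih =>
      have h1 := hn _ (cm h.rV (cm (pow_mem h.rV k) hv))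
      calc _ = n * (r * ((n * r) ^ k * v * ((n * r) ^ k)⁻¹) * r⁻¹) * n⁻¹ := by
            simp only [pow_succ', mul_inv_rev, mul_assoc]
        _ = _ := by rw [ih, ← h1]; simp only [pow_succ', mul_inv_rev, mul_assoc, mul_inv_cancel, mul_one]
  refine ⟨h.tt, h.tV, h.sq, h.four, h.syl, c, mul_mem (cent_le_norm V hn) h.rV,
    fun v hv w hw v1 w1 => ?_, fun c hc ct => ?_⟩
  · obtain ⟨k, hk⟩ := h.tr v hv w hw v1 w1
    exact ⟨k, (hr k v hv).trans hk⟩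
  · obtain ⟨k, hk⟩ := h.nr c hc ct
    refine ⟨k, fun v hv => ?_⟩
    have h1 := hn _ (cm h.rV (cm' hc hv))
    calc _ = c * (n * (r * (c⁻¹ * v * c) * r⁻¹)) * (c * n)⁻¹ := by group
      _ = _ := by rw [← h1, hr k v hv, ← hk v hv]; group

end EC

end Cfsg.Agent.TL2
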