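/-
Field coordinates on `V`.
-/
import Cfsg.Agent.TL2.Basic
import Cfsg.Agent.H26.Singer
import Cfsg.Agent.H41.HigmanBase

set_option autoImplicit false
set_option linter.unusedSectionVars false

namespace Cfsg.Agent.TL2

open Cfsg Subgroup H49
open H41 (IsCoord)

theorem mem_zpowers_of_fix {K : Type*} [Field K] [Finite K] (θ θ' : RingAut K)
    (h : ∀ x, θ x = x → x = 0 ∨ x = 1) : θ' ∈ zpowers θ := by
  classical
  have : Finite (RingAut K) := Finite.of_injective _ DFunLike.coe_injective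
  let _ := Fintype.ofFinite (RingAut K)
  let _ := Fintype.ofFinite (zpowers θ)
  have key : ∀ S S' : Subfield K, S = S' → Module.finrank S K = Module.finrank S' K := by
    rintro _ _ rfl; rfl
  have h1 := key (FixedPoints.subfield (zpowers θ) K) (FixedPoints.subfield (RingAut K) K)
    (le_antisymm (fun x hx => by
      rcases h x (hx ⟨θ, mem_zpowers θ⟩) with rfl | rfl
      exacts [zero_mem _, one_mem _]) fun x hx g => hx g.1)
  rw [FixedPoints.finrank_eq_card, FixedPoints.finrank_eq_card, ← Nat.card_eq_fintype_card,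
    ← Nat.card_eq_fintype_card, card_eq_iff_eq_top] at h1
  exact h1 ▸ mem_top θ'

variable {G : Type*} [Group G] [Finite G]

theorem act_pow {V : Subgroup G} {y z : G} (hz : z ∈ 𝒩(V))
    (h : ∀ v ∈ V, y * v * y⁻¹ = z * v * z⁻¹) (k : ℕ) {v : G} (hv : v ∈ V) :
    y ^ k * v * (y ^ k)⁻¹ = z ^ k * v * (z ^ k)⁻¹ := by
  induction k with
  | zero => simp
  | succ k ih =>
    calc _ = y * (y ^ k * v * (y ^ k)⁻¹) * y⁻¹ := by simp only [pow_succ', mul_inv_rev, mul_assoc]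
      _ = _ := by
        rw [ih, h _ (cm (pow_mem hz k) hv)]; simp only [pow_succ', mul_inv_rev, mul_assoc]

namespace EC

variable {t r : G} {V : Subgroup G} (h : EC t r V)
include h

theorem irr (U : Subgroup G) (hU : U ≤ V) (hr : ∀ u ∈ U, r * u * r⁻¹ ∈ U) : U = ⊥ ∨ U = V := by
  refine or_iff_not_imp_left.2 fun e => hU.antisymm fun v hv => ?_
  obtain ⟨u, hu, u1⟩ := ne_bot_iff_exists.1 e
  by_cases v1 : v = 1
  · exact v1 ▸ one_mem U
  obtain ⟨k, rfl⟩ := h.tr u (hU hu) v hv u1 v1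
  exact cm (pow_mem (mn hr) k) hu

theorem coord : ∃ (n : ℕ) (K : Type) (_ : Field K) (_ : Fintype K) (_ : CharP K 2) (c : G → K)
    (μ : K), n ≠ 0 ∧ Fintype.card K = 2 ^ n ∧ Nat.card V = 2 ^ n ∧
      IsPrimitiveRoot μ (2 ^ n - 1) ∧ IsCoord (MulAut.conj r) V ⊥ c μ := by
  obtain ⟨u, hu, u1, -⟩ := exists_third h.four 1 1
  obtain ⟨K, _, _, φ, inj, ran, add, one, hφ⟩ := H26.exists_field_of_normalizes V
    (fun x hx y hy => h.comm hx hy) {r} (by rintro _ rfl _ rfl _ _; rfl)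
    (by rintro _ rfl _ hu; exact cm h.rV hu) (fun U hU hr => h.irr U hU (hr r rfl)) hu u1
  obtain ⟨μ, μ0, θ, e, hθ⟩ := hφ r (fun u hu => cm h.rV hu) (by rintro _ rfl; simp)
  obtain rfl := hθ (by rintro _ rfl; rfl)
  have φ0 : φ 0 = 1 := by simpa using add 0 0
  have hV : ∀ x, φ x ∈ V := fun x => (ran _).2 ⟨x, rfl⟩
  have hc : ∀ x, Function.invFun φ (φ x) = x := Function.leftInverse_invFun inj
  obtain ⟨n, hn⟩ := h.p2.exists_card_eq
  have hK : Fintype.card K = 2 ^ n := by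
    rw [← hn, ← Nat.card_eq_fintype_card]
    exact Nat.card_congr (Equiv.ofBijective (fun x => (⟨φ x, hV x⟩ : V))
      ⟨fun x y e => inj (congrArg Subtype.val e), fun v => let ⟨x, hx⟩ := (ran _).1 v.2
        ⟨x, Subtype.ext hx⟩⟩)
  have hp : ∀ (k : ℕ) x, r ^ k * φ x * (r ^ k)⁻¹ = φ (μ ^ k * x) := fun k x => by
    induction k with
    | zero => simp
    | succ k ih =>
      rw [pow_succ' μ, mul_assoc μ]
      refine Eq.trans ?_ (e (μ ^ k * x))
      rw [← ih]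
      simp only [pow_succ', mul_inv_rev, mul_assoc]
  refine ⟨n, K, inferInstance, inferInstance, CharTwo.of_one_ne_zero_of_two_eq_zero one_ne_zero
    (inj (by rw [← one_add_one_eq_two, add, h.sq _ (hV 1), φ0])), Function.invFun φ, μ,
    fun e => ?_, hK, hn, ?_, bot_le, fun x hx => cm h.rV hx, fun x hx y hy => ?_, fun x hx => ?_,
    fun x => ⟨φ x, hV x, hc x⟩, fun x hx => ?_⟩
  · have := h.four
    rw [hn, e] at this
    omega
  · classical
    have h1 := orderOf_eq_card_of_forall_mem_powers (g := Units.mk0 μ μ0) fun x => by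
      obtain ⟨k, hk⟩ := h.tr (φ 1) (hV 1) (φ x) (hV x) (one ▸ u1) fun e => x.ne_zero (inj (e.trans φ0.symm))
      exact ⟨k, Units.ext (by simpa [hp] using inj ((hp k 1).symm.trans hk))⟩
    rw [← orderOf_units, Nat.card_eq_fintype_card, Fintype.card_units, hK] at h1
    exact h1 ▸ IsPrimitiveRoot.orderOf μ
  · obtain ⟨x, rfl⟩ := (ran _).1 hx
    obtain ⟨y, rfl⟩ := (ran _).1 hy
    rw [← add, hc, hc, hc]
  · obtain ⟨x, rfl⟩ := (ran _).1 hx
    rw [hc, mem_bot, ← φ0, inj.eq_iff]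
  · obtain ⟨x, rfl⟩ := (ran _).1 hx
    rw [MulAut.conj_apply, e, hc, hc, RingEquiv.refl_apply]

theorem cyc {u x y : G} (hu : u ∈ V) (u1 : u ≠ 1) (hx : x ∈ 𝒩(V)) (hy : y ∈ 𝒩(V))
    (xt : x * t = t * x) (yt : y * t = t * y) (xu : x * u * x⁻¹ = u) (yu : y * u * y⁻¹ = u)
    (hf : ∀ v ∈ V, x * v * x⁻¹ = v → v = 1 ∨ v = u) :
    ∃ k : ℕ, ∀ v ∈ V, y * v * y⁻¹ = x ^ k * v * (x ^ k)⁻¹ := by
  obtain ⟨K, _, _, φ, inj, ran, add, one, hφ⟩ := H26.exists_field_of_normalizes V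
    (fun x hx y hy => h.comm hx hy)
    {g | ∃ k : ℕ, ∀ v ∈ V, g * v * g⁻¹ = r ^ k * v * (r ^ k)⁻¹}
    (fun a ⟨i, hi⟩ b ⟨j, hj⟩ v hv => by
      calc _ = a * (b * v * b⁻¹) * a⁻¹ := by group
        _ = b * (a * v * a⁻¹) * b⁻¹ := by
          rw [hj v hv, hi v hv, hi _ (cm (pow_mem h.rV j) hv), hj _ (cm (pow_mem h.rV i) hv)]
          group
        _ = _ := by group)
    (fun a ⟨i, hi⟩ v hv => hi v hv ▸ cm (pow_mem h.rV i) hv)
    (fun U hU hr => h.irr U hU (hr r ⟨1, by simp⟩)) hu u1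
  have φ0 : φ 0 = 1 := by simpa using add 0 0
  have hV : ∀ x, φ x ∈ V := fun x => (ran _).2 ⟨x, rfl⟩
  have key : ∀ g ∈ 𝒩(V), g * t = t * g → g * u * g⁻¹ = u →
      ∃ θ : RingAut K, ∀ s, g * φ s * g⁻¹ = φ (θ s) := fun g hg gt gu => by
    obtain ⟨j, hj⟩ := h.nr g hg gt
    obtain ⟨c, -, θ, e, -⟩ := hφ g (fun u hu => cm hg hu) fun a ⟨i, hi⟩ => ⟨j * i, fun v hv => by
      rw [pow_mul, ← act_pow (pow_mem h.rV j) hj i hv, conj_pow]
      calc _ = g * (a * (g⁻¹ * v * g) * a⁻¹) * g⁻¹ := by group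
        _ = _ := by rw [hi _ (cm' hg hv)]; group⟩
    have c1 : c = 1 := inj (by simpa [one, gu] using (e 1).symm)
    exact ⟨θ, fun s => by rw [e, c1, one_mul]⟩
  obtain ⟨θ, hθ⟩ := key x hx xt xu
  obtain ⟨θ', hθ'⟩ := key y hy yt yu
  have : Finite (RingAut K) := Finite.of_injective _ DFunLike.coe_injective
  obtain ⟨k, rfl⟩ := (mem_powers_iff_mem_zpowers).2 (mem_zpowers_of_fix θ θ' fun s hs => by
    rcases hf _ (hV s) (by rw [hθ, hs]) with e | e
    exacts [Or.inl (inj (e.trans φ0.symm)), Or.inr (inj (e.trans one.symm))])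
  refine ⟨k, fun v hv => ?_⟩
  obtain ⟨s, rfl⟩ := (ran _).1 hv
  rw [hθ']
  clear hθ'
  induction k with
  | zero => simp
  | succ k ih =>
    simp only [pow_succ', RingAut.mul_apply, ← hθ] at ih ⊢
    simp only [ih, mul_inv_rev, mul_assoc]

end EC

end Cfsg.Agent.TL2
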