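/-
Homocyclic groups `A ≥ V` inverted by `t`.
-/
import Cfsg.Agent.TL2.Coord

set_option autoImplicit false
set_option linter.unusedSectionVars false

namespace Cfsg.Agent.TL2

open Cfsg Subgroup H49
open H42 (SylIn exists_sylIn lt_inf_normalizer)

variable {G : Type*} [Group G] [Finite G]

structure St0 (t r : G) (V A : Subgroup G) : Prop extends EC t r V where
  nc : ∀ g : G, g * t * g⁻¹ ∉ V
  VA : V ≤ A
  pA : IsPGroup 2 A
  inv : ∀ a ∈ A, t * a * t = a⁻¹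
  tA : t ∉ A
  rA : r ∈ 𝒩(A)

structure St (t r : G) (V A : Subgroup G) (e : ℕ) : Prop extends St0 t r V A where
  ex : ∀ a ∈ A, a ^ 2 ^ (e + 1) = 1
  ne : ∃ a ∈ A, a ^ 2 ^ e ≠ 1

def τ (t : G) (e : ℕ) (g : G) : G := (t * (g * t * g⁻¹)) ^ 2 ^ e

theorem τ_conj {t c : G} (hc : c * t = t * c) (e : ℕ) (g : G) :
    τ t e (c * g * c⁻¹) = c * τ t e g * c⁻¹ := by
  have h1 : c⁻¹ * t * c = t := by rw [mul_assoc, ← hc, inv_mul_cancel_left]
  rw [τ, τ, ← conj_pow]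
  congr 1
  calc _ = t * c * (g * (c⁻¹ * t * c) * g⁻¹) * c⁻¹ := by group
    _ = _ := by rw [h1, ← hc]; group

theorem τ_of_comm {t c : G} (tt : t * t = 1) (hc : c * t = t * c) (e : ℕ) : τ t e c = 1 := by
  rw [τ, hc, mul_inv_cancel_right, tt, one_pow]

namespace St0

variable {t r : G} {V A : Subgroup G} (h : St0 t r V A)
include h

theorem exists_st : ∃ e, St t r V A e := by
  classical
  obtain ⟨n, hn⟩ := h.pA.exists_card_eq
  have h1 : ∃ e, ∀ a ∈ A, a ^ 2 ^ e = 1 := ⟨n, fun a ha => by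
    rw [← hn]; exact congrArg Subtype.val (pow_card_eq_one' (x := (⟨a, ha⟩ : A)))⟩
  obtain ⟨v, hv, v1, -⟩ := exists_third h.four 1 1
  obtain ⟨e, he⟩ := Nat.exists_eq_succ_of_ne_zero (n := Nat.find h1) fun e =>
    v1 (by simpa [e] using Nat.find_spec h1 v (h.VA hv))
  refine ⟨e, h, by simpa [he] using Nat.find_spec h1, ?_⟩
  simpa using Nat.find_min h1 (m := e) (by omega)

theorem commA {a b : G} (ha : a ∈ A) (hb : b ∈ A) : a * b = b * a := by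
  have h1 := h.inv _ (mul_mem ha hb)
  rw [show t * (a * b) * t = t * a * t * (t * b * t) by
    rw [show t * a * t * (t * b * t) = t * a * (t * t) * b * t by group, h.tt]; group,
    h.inv a ha, h.inv b hb, ← mul_inv_rev, inv_inj] at h1
  exact h1.symm

theorem tNA : t ∈ 𝒩(A) := mn fun a ha => by rw [h.ti, h.inv a ha]; exact inv_mem ha

theorem memU {x : G} : x ∈ A ⊔ zpowers t ↔ x ∈ A ∨ t * x ∈ A := mem_sup_t h.tt h.tNA

theorem pU : IsPGroup 2 (A ⊔ zpowers t : Subgroup G) :=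
  p2_sup h.pA (p2_zpowers h.tt) (zpowers_le.2 h.tNA)

theorem TU : V ⊔ zpowers t ≤ A ⊔ zpowers t := sup_le_sup_right h.VA _

theorem tU : t ∈ A ⊔ zpowers t := mem_sup_right (mem_zpowers t)

theorem om {a : G} (ha : a ∈ A) (h2 : a * a = 1) : a ∈ V := by
  refine (h.cent h.pU h.TU (mem_sup_left ha) ?_).resolve_right fun e => h.tA ?_
  · have := h.inv a ha
    rw [inv_eq_of_mul_eq_one_right h2] at this
    conv_lhs => rw [← this, mul_assoc, h.tt, mul_one]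
  · simpa using mul_mem (h.VA e) (inv_mem ha)

theorem ncA (g : G) : g * t * g⁻¹ ∉ A := fun e =>
  h.nc g (h.om e (by rw [conj_mul, h.tt]; simp))

theorem rU : r ∈ 𝒩(A ⊔ zpowers t) := mn fun x hx => by
  rcases h.memU.1 hx with e | e
  · exact mem_sup_left (cm h.rA e)
  · refine h.memU.2 (Or.inr ?_)
    have := cm h.rA e
    rwa [← mul_assoc, h.rt, mul_assoc, mul_assoc, ← mul_assoc r] at this

theorem tmem {g : G} (hg : g ∈ 𝒩(A ⊔ zpowers t)) : t * (g * t * g⁻¹) ∈ A :=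
  (h.memU.1 (cm hg h.tU)).resolve_left (h.ncA g)

theorem idx : A.relIndex (A ⊔ zpowers t) = 2 :=
  NO6.relIndex_sup_zpowers h.tNA (h.tt ▸ one_mem A) h.tA

theorem A_le_cent : A ≤ 𝒞(V) := fun _ ha _ hv => h.commA (h.VA hv) ha

theorem U_le_cent : A ⊔ zpowers t ≤ 𝒞(V) :=
  sup_le h.A_le_cent (zpowers_le.2 fun _ hv => h.ct hv)

end St0

namespace St

variable {t r : G} {V A : Subgroup G} {e : ℕ} (h : St t r V A e)
include h

theorem φV {a : G} (ha : a ∈ A) : a ^ 2 ^ e ∈ V :=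
  h.om (pow_mem ha _) (by rw [← pow_two, ← pow_mul, ← pow_succ, h.ex a ha])

theorem φmul {a b : G} (ha : a ∈ A) (hb : b ∈ A) (k : ℕ) : (a * b) ^ k = a ^ k * b ^ k :=
  Commute.mul_pow (h.commA ha hb) k

theorem φsurj {v : G} (hv : v ∈ V) : ∃ a ∈ A, a ^ 2 ^ e = v := by
  by_cases v1 : v = 1
  · exact ⟨1, one_mem A, by simp [v1]⟩
  obtain ⟨a, ha, a1⟩ := h.ne
  obtain ⟨k, hk⟩ := h.tr _ (h.φV ha) v hv a1 v1
  exact ⟨_, cm (pow_mem h.rA k) ha, by rw [conj_pow, hk]⟩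

theorem φker (j : ℕ) (hj : j ≤ e) {a : G} (ha : a ∈ A) (h1 : a ^ 2 ^ j = 1) :
    ∃ b ∈ A, a = b * b := by
  induction j generalizing a with
  | zero => exact ⟨1, one_mem A, by simpa using h1⟩
  | succ j ih =>
    obtain ⟨d, rfl⟩ := Nat.exists_eq_add_of_le hj
    obtain ⟨b, hb, e⟩ := h.φsurj (h.om (pow_mem ha (2 ^ j))
      (by rw [← pow_two, ← pow_mul, ← pow_succ, h1]))
    have hc := pow_mem hb (2 ^ d)
    obtain ⟨c, hc', e'⟩ := ih (by omega) (mul_mem ha (inv_mem (mul_mem hc hc))) (by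
      rw [h.φmul ha (inv_mem (mul_mem hc hc)), ← e, inv_pow, ← pow_two, ← pow_mul, ← pow_mul,
        ← pow_succ', ← pow_add, show d + (j + 1) = j + 1 + d by omega, mul_inv_cancel])
    refine ⟨_, mul_mem hc' hc, ?_⟩
    rw [mul_inv_eq_iff_eq_mul.1 e', mul_assoc, mul_assoc, ← mul_assoc c (b ^ 2 ^ d), h.commA hc' hc,
      mul_assoc, h.commA hc' hc]

theorem move {x y : G} (hx : x ∈ A) (hy : y ∈ A) (e' : x ^ 2 ^ e = y ^ 2 ^ e) :
    ∃ b ∈ A, b⁻¹ * (t * x) * b = t * y := by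
  obtain ⟨b, hb, e1⟩ := h.φker e le_rfl (mul_mem (inv_mem hx) hy) (by
    rw [h.φmul (inv_mem hx) hy, inv_pow, e', inv_mul_cancel])
  refine ⟨b, hb, ?_⟩
  rw [← h.inv b hb, inv_mul_eq_iff_eq_mul.1 e1, mul_assoc (t * b), ← mul_assoc t t, h.tt, one_mul,
    mul_assoc t, ← h.commA hx hb]
  group

theorem all (hn : ¬ SylIn 2 (A ⊔ zpowers t) ⊤) {a : G} (ha : a ∈ A) :
    ∃ g ∈ 𝒩(A ⊔ zpowers t), g * t * g⁻¹ = t * a := by
  have hU : ∀ b ∈ A, b⁻¹ ∈ 𝒩(A ⊔ zpowers t) := fun b hb => le_normalizer (inv_mem (mem_sup_left hb))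
  obtain ⟨g, hg, hg'⟩ : ∃ g ∈ 𝒩(A ⊔ zpowers t), ∀ p ∈ A ⊔ zpowers t, p * t * p⁻¹ ≠ g * t * g⁻¹ := by
    by_contra! hc
    exact hn (syl_of_fus h.syl h.tT h.pU h.TU hc)
  have key : ∀ x ∈ A, x ^ 2 ^ e = 1 → ∃ b ∈ A, b⁻¹ * t * b⁻¹⁻¹ = t * x := fun x hx e => by
    simpa using h.move (one_mem A) hx (by simp [e])
  by_cases a1 : a ^ 2 ^ e = 1
  · obtain ⟨b, hb, e⟩ := key a ha a1
    exact ⟨_, hU b hb, e⟩
  obtain ⟨k, hk⟩ := h.tr _ (h.φV (h.tmem hg)) _ (h.φV ha) (fun e => by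
    obtain ⟨b, hb, e⟩ := key _ (h.tmem hg) e
    exact hg' _ (inv_mem (mem_sup_left hb)) (by rw [e, ← mul_assoc, h.tt, one_mul])) a1
  obtain ⟨b, hb, e⟩ := h.move (cm (pow_mem h.rA k) (h.tmem hg)) ha (by rw [conj_pow, hk])
  refine ⟨_, mul_mem (hU b hb) (mul_mem (pow_mem h.rU k) hg), ?_⟩
  rw [← e, ← mul_assoc (r ^ k), h.rk, mul_assoc t (r ^ k), mul_assoc t, ← mul_assoc t t, h.tt]
  group

theorem τV {g : G} (hg : g ∈ 𝒩(A ⊔ zpowers t)) : τ t e g ∈ V := h.φV (h.tmem hg)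

theorem τA {a : G} (ha : a ∈ A) : τ t e a = 1 := by
  rw [τ, ← mul_assoc, ← mul_assoc, h.inv a ha, ← pow_two, ← pow_mul, ← pow_succ',
    h.ex _ (inv_mem ha)]

theorem ker' {g : G} (hg : g ∈ 𝒩(A ⊔ zpowers t)) (e' : τ t e g = 1) :
    ∃ b ∈ A, b⁻¹ * g * t = t * (b⁻¹ * g) := by
  obtain ⟨b, hb, e1⟩ := h.move (h.tmem hg) (one_mem A) (e'.trans (one_pow _).symm)
  rw [← mul_assoc t, h.tt, one_mul, mul_one] at e1
  refine ⟨b, hb, ?_⟩
  conv_rhs => rw [← e1]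
  group

theorem ker {Q : Subgroup G} (hQ : IsPGroup 2 Q) (hU : A ⊔ zpowers t ≤ Q) {g : G} (hgQ : g ∈ Q)
    (hg : g ∈ 𝒩(A ⊔ zpowers t)) (e' : τ t e g = 1) : g ∈ A ⊔ zpowers t := by
  obtain ⟨b, hb, e1⟩ := h.ker' hg e'
  have := h.TU (h.memT.2 (h.cent hQ (h.TU.trans hU)
    (mul_mem (inv_mem (hU (mem_sup_left hb))) hgQ) e1))
  exact mul_inv_cancel_left b g ▸ mul_mem (mem_sup_left hb) this

end St

structure Sn (t r : G) (V A : Subgroup G) (e : ℕ) : Prop extends St t r V A e where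
  al : ∀ a ∈ A, ∃ g ∈ 𝒩(A ⊔ zpowers t), g * t * g⁻¹ = t * a

namespace Sn

variable {t r : G} {V A : Subgroup G} {e : ℕ} (h : Sn t r V A e)
include h

theorem nA {g : G} (hg : g ∈ 𝒩(A ⊔ zpowers t)) : g ∈ 𝒩(A) := mn fun a ha => by
  refine (h.memU.1 (cm hg (mem_sup_left ha))).resolve_right fun e => ?_
  obtain ⟨k, -, hk⟩ := h.al _ e
  rw [← mul_assoc, h.tt, one_mul] at hk
  refine h.ncA (g⁻¹ * k) ?_
  rwa [show g⁻¹ * k * t * (g⁻¹ * k)⁻¹ = g⁻¹ * (k * t * k⁻¹) * g by group, hk,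
    show g⁻¹ * (g * a * g⁻¹) * g = a by group]

theorem nV {g : G} (hg : g ∈ 𝒩(A ⊔ zpowers t)) : g ∈ 𝒩(V) := mn fun v hv =>
  h.om (cm (h.nA hg) (h.VA hv)) (by rw [conj_mul, h.sq v hv]; simp)

theorem τ_mul {g g' : G} (hg : g ∈ 𝒩(A ⊔ zpowers t)) (hg' : g' ∈ 𝒩(A ⊔ zpowers t)) :
    τ t e (g * g') = τ t e g * (g * τ t e g' * g⁻¹) := by
  rw [τ, τ, τ, ← conj_pow, ← h.φmul (h.tmem hg) (cm (h.nA hg) (h.tmem hg'))]
  congr 1
  calc _ = t * (g * ((t * t) * (g' * t * g'⁻¹)) * g⁻¹) := by rw [h.tt]; group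
    _ = _ := by group

theorem τU {u : G} (hu : u ∈ A ⊔ zpowers t) : τ t e u = 1 := by
  rcases h.memU.1 hu with e | e
  · exact h.τA e
  · have := h.τ_mul (le_normalizer h.tU) (le_normalizer hu)
    rw [h.τA e, τ_of_comm h.tt rfl, one_mul] at this
    exact conj_eq_one_iff.1 this.symm

theorem nsqA {x : G} (hx : x * x ∈ A ⊔ zpowers t) : x * x ∈ A := by
  refine (h.memU.1 hx).resolve_right fun e => ?_
  obtain ⟨g, -, hg⟩ := h.al _ e
  exact h.nsq x g (by rw [hg, ← mul_assoc, h.tt, one_mul])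

theorem change {n : G} (hn : n ∈ 𝒞(V)) (hn' : n ∈ 𝒩(A ⊔ zpowers t)) (c : n * t = t * n) :
    Sn t (n * r) V A e :=
  ⟨⟨⟨h.toEC.change hn (by rw [mul_assoc, h.rt, ← mul_assoc, c, mul_assoc]), h.nc, h.VA, h.pA, h.inv,
    h.tA, mul_mem (h.nA hn') h.rA⟩, h.ex, h.ne⟩, h.al⟩

end Sn

end Cfsg.Agent.TL2
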