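/-
A doubly transitive group of degree `2^n` with point stabilizers of odd order containing a normal
cyclic subgroup transitive on the other points.
-/
import Cfsg.Agent.H12.Har4
import Cfsg.Agent.H81.Misc
import Cfsg.Agent.H43.SE
import Cfsg.Agent.H43.Dih
import Cfsg.Agent.H42.SylIn

set_option autoImplicit false

namespace Cfsg.Agent.TL2

open Cfsg MulAction Subgroup H12

structure ZH (X Ω : Type*) [Group X] [MulAction X Ω] (ω : Ω) (r : X) (n : ℕ) : Prop where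
  faith : ∀ g : X, (∀ c : Ω, g • c = c) → g = 1
  card : Nat.card Ω = 2 ^ (n + 2)
  odd : ∀ g : X, g • ω = ω → Odd (orderOf g)
  fix : r • ω = ω
  tr : ∀ a b : Ω, a ≠ ω → b ≠ ω → ∃ k : ℕ, r ^ k • a = b
  nr : ∀ g : X, g • ω = ω → g * r * g⁻¹ ∈ zpowers r
  mv : ∃ g : X, g • ω ≠ ω
  cyc : ∀ a : Ω, a ≠ ω → ∀ h e : X, h • ω = ω → h • a = a → e • ω = ω → e • a = a →
    (∀ b : Ω, h • b = b → b = ω ∨ b = a) → e ∈ zpowers h
  core : pCore 2 X = ⊥

namespace ZH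

variable {X Ω : Type*} [Group X] [MulAction X Ω] {ω : Ω} {r : X} {n : ℕ} (h : ZH X Ω ω r n)
include h

theorem fixz {g : X} (hg : g ∈ zpowers r) : g • ω = ω :=
  (zpowers_le.2 (mem_stabilizer_iff.2 h.fix) hg : g ∈ stabilizer X ω)

theorem t2 : T2 X Ω := by
  have h1 : ∀ a : Ω, ∃ g : X, g • a = ω := fun a => by
    by_cases e : a = ω
    · exact ⟨1, by simp [e]⟩
    obtain ⟨g, hg⟩ := h.mv
    obtain ⟨k, hk⟩ := h.tr a _ e hg
    exact ⟨g⁻¹ * r ^ k, by rw [mul_smul, hk, inv_smul_smul]⟩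
  refine ⟨h.faith, fun {a b c d} hab hcd => ?_⟩
  obtain ⟨g, rfl⟩ := h1 a
  obtain ⟨g', e⟩ := h1 c
  obtain ⟨k, hk⟩ := h.tr (g • b) (g' • d) (fun e => hab (smul_left_cancel g e).symm)
    (fun e' => hcd (smul_left_cancel g' (e.trans e'.symm)))
  exact ⟨g'⁻¹ * r ^ k * g, by rw [mul_smul, mul_smul, h.fixz ⟨k, zpow_natCast r k⟩, ← e,
    inv_smul_smul], by rw [mul_smul, mul_smul, hk, inv_smul_smul]⟩

theorem odd' {g : X} {a : Ω} (hg : g • a = a) : Odd (orderOf g) := by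
  obtain ⟨k, hk⟩ := h.t2.trans a ω
  have := h.odd (k * g * k⁻¹) (by rw [← hk, conj_smul_eq, hg])
  rwa [show k * g * k⁻¹ = MulAut.conj k g from rfl, MulEquiv.orderOf_eq] at this

theorem reg {g : X} (hg : g ∈ zpowers r) {a : Ω} (ha : a ≠ ω) (e : g • a = a) : g = 1 := by
  refine h.faith g fun c => ?_
  by_cases hc : c = ω
  · rw [hc, h.fixz hg]
  obtain ⟨k, rfl⟩ := h.tr a c ha hc
  obtain ⟨j, rfl⟩ := hg
  rw [← mul_smul, ← zpow_natCast, zpow_mul_comm, mul_smul, e]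

theorem comm {x : X} {a b : Ω} (ha : a ≠ ω) (xω : x • ω = ω) (xa : x • a = a) (xb : x • b = b)
    {k : ℕ} (hk : r ^ k • a = b) : x * r ^ k = r ^ k * x := by
  have h1 : x * r ^ k * x⁻¹ ∈ zpowers r := by
    rw [← conj_pow]; exact pow_mem (h.nr x xω) k
  have := h.reg (mul_mem (inv_mem (pow_mem (mem_zpowers r) k)) h1) ha (by
    rw [mul_smul, inv_smul_eq_iff, mul_smul, mul_smul, inv_smul_eq_iff.2 xa.symm, hk, xb])
  rw [inv_mul_eq_one] at this
  exact mul_inv_eq_iff_eq_mul.1 this.symm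

theorem two_fix [Finite X] {s x : X} {a : Ω} (ha : a ≠ ω) (s1 : s • ω = a) (s2 : s • a = ω)
    (x1 : x ≠ 1) (xω : x • ω = ω) (xa : x • a = a) (hi : s * x * s⁻¹ = x⁻¹) {b : Ω}
    (xb : x • b = b) : b = ω ∨ b = a := by
  by_contra hb
  rw [not_or] at hb
  have f1 : ∀ c : Ω, x • c = c → x • s • c = s • c := fun c hc => by
    rw [← inv_smul_eq_iff.1 (show x⁻¹ • s • c = s • c by rw [← hi, conj_smul_eq, hc])]
  have hs : s • b ≠ ω := fun e => hb.2 (smul_left_cancel s (e.trans s2.symm))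
  obtain ⟨k, hk⟩ := h.tr a b ha hb.1
  obtain ⟨j, hj⟩ := h.tr a (s • b) ha hs
  have c1 := h.comm ha xω xa xb hk
  have c2 := h.comm ha xω xa (f1 b xb) hj
  have h3 := h.odd' (g := (r ^ j)⁻¹ * s * r ^ k * s * s) (a := a) (by
    rw [mul_smul, mul_smul, mul_smul, mul_smul, s2, s1, hk, ← hj, inv_smul_smul])
  have hi' : s * x⁻¹ * s⁻¹ = x := by rw [← conj_inv, hi, inv_inv]
  have h4 := H43.sq_eq_one_of_odd_inverts h3 (d := x) (by
    calc _ = (r ^ j)⁻¹ * (s * (r ^ k * (s * (s * x * s⁻¹) * s⁻¹) * (r ^ k)⁻¹) * s⁻¹) * r ^ j := by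
          group
      _ = _ := by
          rw [hi, hi', ← c1, mul_inv_cancel_right, hi, mul_assoc, inv_mul_eq_iff_eq_mul]
          exact (Commute.inv_left c2).eq)
  have h5 := h.odd x xω
  rw [H43.orderOf_two h4 x1] at h5
  exact absurd h5 (by decide)

theorem main [Finite X] [Finite Ω] : ∃ q, L2 X q := by
  have hT := h.t2
  have h4 : 4 ≤ Nat.card Ω := h.card ▸ Nat.pow_le_pow_right two_pos (Nat.le_add_left 2 n)
  obtain ⟨g₀, hg₀⟩ := h.mv
  set a := g₀ • ω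
  have hev : Even (Nat.card (⊤ : Subgroup X)) := by
    have := card_trans (⊤ : Subgroup X) (fun _ : Ω => True) (a := ω) (fun _ _ => trivial)
      fun c _ => let ⟨g, hg⟩ := hT.trans ω c; ⟨g, trivial, hg⟩
    rw [← this, Nat.card_congr (Equiv.subtypeUnivEquiv fun _ => trivial), h.card, pow_succ,
      mul_comm _ 2, mul_assoc]
    exact even_two_mul _
  obtain ⟨s, -, s1, s2⟩ := H26.exists_invol_mem hev
  obtain ⟨x, p, hp, p2, hx, hi⟩ := H81.exists_inverted_of_not_mem_pCore s2 (h.core ▸ s1)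
  have := Fact.mk hp
  obtain ⟨b, hb⟩ := exists_fix_of_pgroup (Ω := Ω) hp (P := zpowers x)
    (IsPGroup.of_card (n := 1) (by rw [Nat.card_zpowers, hx, pow_one])) (by
      rw [h.card]
      exact fun e => p2 ((Nat.prime_dvd_prime_iff_eq hp Nat.prime_two).1 (hp.dvd_of_dvd_pow e)))
  have sb : s • b ≠ b := fun e => by
    have := h.odd' e
    rw [H43.orderOf_two s2 s1] at this
    exact absurd this (by decide)
  obtain ⟨k, k1, k2⟩ := hT.two sb.symm hg₀.symm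
  have x1 : k * x * k⁻¹ ≠ 1 := fun e => by
    rw [conj_eq_one_iff.1 e, orderOf_one] at hx
    exact hp.one_lt.ne hx
  have σ1 : (k * s * k⁻¹) • ω = a := by rw [← k1, conj_smul_eq, k2]
  have σ2 : (k * s * k⁻¹) • a = ω := by
    rw [← k2, conj_smul_eq, ← mul_smul s, s2, one_smul, k1]
  have xω : (k * x * k⁻¹) • ω = ω := by rw [← k1, conj_smul_eq, hb x (mem_zpowers x)]
  have xa : (k * x * k⁻¹) • a = a := by
    rw [← k2, conj_smul_eq, show x • s • b = s • b from (inv_smul_eq_iff.1 (by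
      rw [← hi, conj_smul_eq, hb x (mem_zpowers x)])).symm]
  have hi' : k * s * k⁻¹ * (k * x * k⁻¹) * (k * s * k⁻¹)⁻¹ = (k * x * k⁻¹)⁻¹ := by
    rw [conj_inv, conj_inv, conj_mul, conj_mul, hi]
  generalize k * s * k⁻¹ = σ at *
  generalize k * x * k⁻¹ = y at *
  have key : ∀ e : X, e ≠ 1 → e • ω = ω → e • a = a → ∀ c : Ω, e • c = c → c = ω ∨ c = a :=
    fun e e1 eω ea c ec => by
      obtain ⟨j, rfl⟩ := h.cyc a hg₀ y e xω xa eω ea fun b => h.two_fix hg₀ σ1 σ2 x1 xω xa hi'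
      exact h.two_fix hg₀ σ1 σ2 e1 eω ea (by rw [← conj_zpow, hi', inv_zpow]) ec
  have hZ := hT.zass (fun ⟨R, hR, r1, r2⟩ => by
      have h1 := card_trans R (fun _ : Ω => True) (a := ω) (fun _ _ => trivial) fun c _ => r1 ω c
      rw [Nat.card_congr (Equiv.subtypeUnivEquiv fun _ => trivial), h.card,
        (eq_bot_iff_forall (R ⊓ stabilizer X ω)).2 fun g hg => r2 ω g hg.1 hg.2, card_bot,
        mul_one] at h1
      obtain ⟨g, hg, e⟩ := r1 ω a
      have := H44.le_pCore hR (IsPGroup.of_card h1.symm) hg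
      rw [h.core, mem_bot] at this
      exact hg₀ (by rw [← e, this, one_smul])) ω fun g c d e cd de ce gc gd ge => by
    by_contra g1
    obtain ⟨k, k1, k2⟩ := hT.two cd hg₀.symm
    rcases key (k * g * k⁻¹) (by simpa) (k1 ▸ conj_fix gc) (k2 ▸ conj_fix gd) _ (conj_fix ge)
      with e' | e'
    exacts [ce (smul_left_cancel k (k1.trans e'.symm)), de (smul_left_cancel k (k2.trans e'.symm))]
  have hz := ZT.of_zass hZ
  have hk : ∀ u ∈ zker X ω, u ∈ zpowers r := fun u hu => by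
    obtain ⟨j, hj⟩ := h.tr a (u • a) hg₀ (smul_ne_of_fix (hz.ker_fix hu) hg₀)
    have hr : r ^ j ∈ zpowers r := pow_mem (mem_zpowers r) j
    rwa [← hz.ker_unique hg₀ (hz.mem_ker.2 ⟨h.fixz hr, or_iff_not_imp_left.2 fun e c hc =>
      by_contra fun e' => e (h.reg hr e' hc)⟩) hu hj]
  have ho : Odd (Nat.card (stabilizer X ω ⊓ stabilizer X a : Subgroup X)) := by
    refine Nat.not_even_iff_odd.1 fun e => ?_
    obtain ⟨z, hz, z1, z2⟩ := H26.exists_invol_mem e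
    have := h.odd z hz.1
    rw [H43.orderOf_two z2 z1] at this
    exact absurd this (by decide)
  have h1 : Nat.card (stabilizer X ω ⊓ stabilizer X a : Subgroup X) ≠ 1 := fun e =>
    x1 (mem_bot.1 (card_eq_one.1 e ▸ ⟨xω, xa⟩))
  have h2 : 2 ∣ Nat.card Ω := h.card ▸ dvd_pow_self 2 (by omega)
  rw [Nat.odd_iff] at ho
  rcases H26.zass_abelian hZ hg₀.symm (fun u hu v hv => by
    obtain ⟨i, rfl⟩ := hk u hu
    obtain ⟨j, rfl⟩ := hk v hv
    exact zpow_mul_comm r i j) with e | ⟨e, K, _, _, hK, -, ⟨φ⟩⟩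
  · omega
  · rw [Nat.card_eq_fintype_card (α := K)] at hK
    exact ⟨_, L2.of_equiv (Nat.odd_iff.2 (by omega)) (by omega) φ⟩

end ZH

open H42 H43 in
/-- Sylow `2`-subgroups of `PSL₂(q)`, `q` odd, are dihedral. -/
theorem dih_of_L2 {X : Type*} [Group X] [Finite X] {q : ℕ} (h : L2 X q) {P : Subgroup X}
    (hP : SylIn 2 P ⊤) : ∃ x y, Dih P x y ∧ x ≠ 1 := by
  obtain ⟨τ, μ, -, hτ, hμ, hn, hc, -, c, s, c1, s2, hr, hs⟩ := h.num
  have h0 : τ ≠ 0 := c1 ▸ (orderOf_pos c).ne'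
  obtain ⟨j, m, hm, e⟩ := Nat.exists_eq_two_pow_mul_odd h0
  have o1 : orderOf (c ^ m) = 2 ^ j := by
    rw [orderOf_pow_of_dvd hm.pos.ne' ⟨2 ^ j, by rw [c1, e, mul_comm]⟩, c1, e,
      Nat.mul_div_cancel _ hm.pos]
  have hd : Dih (zpowers (c ^ m) ⊔ zpowers s) (c ^ m) s :=
    ⟨mem_sup_left (mem_zpowers _), mem_sup_right (mem_zpowers _), s2,
      by rw [← conj_pow, hr, inv_pow], fun e' => hs (zpowers_le.2 (pow_mem (mem_zpowers c) m) e'), rfl⟩
  have hc2 := hd.card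
  rw [o1, ← pow_succ'] at hc2
  have hS : SylIn 2 (zpowers (c ^ m) ⊔ zpowers s) ⊤ := ⟨le_top, IsPGroup.of_card hc2, by
    have h1 := card_mul_relIndex (le_top (a := zpowers (c ^ m) ⊔ zpowers s))
    rw [card_top, hc, hc2, show 2 * τ * μ * (τ + μ) = 2 ^ (j + 1) * (m * μ * (τ + μ)) by
      rw [e]; ring] at h1
    rw [Nat.eq_of_mul_eq_mul_left (by positivity) h1, ← even_iff_two_dvd, Nat.not_even_iff_odd]
    exact (hm.mul hμ).mul (hτ.add_odd hμ)⟩
  obtain ⟨g, -, hg⟩ := hP.exists_conj hS.isP le_top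
  have e1 : cj g (zpowers (c ^ m) ⊔ zpowers s) = P :=
    (SylIn.eq_of_le (by simpa using hS.cj g) hP.isP le_top (cj_le_iff.2 hg)).symm
  refine ⟨g * c ^ m * g⁻¹, g * s * g⁻¹, ⟨hg _ hd.hx, hg _ hd.hy, by rw [conj_mul, s2]; simp,
    by rw [conj_inv, conj_inv, conj_mul, conj_mul, hd.rel], fun ⟨k, e'⟩ => hd.y_notMem
      ⟨k, by simpa [conj_zpow] using e'⟩, ?_⟩, fun e' => ?_⟩
  · rw [← e1, cj_sup]
    simp only [cj, MonoidHom.map_zpowers]
    rfl
  · rw [conj_eq_one_iff.1 e', orderOf_one] at o1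
    rw [← o1, one_mul] at e
    exact Nat.not_even_iff_odd.2 hm (e ▸ hτ)

end Cfsg.Agent.TL2
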